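import Groth.Agent.SchDenseLib.Hom
import Groth.Agent.S3844
import Groth.Agent.Neron6.Over
import Groth.Agent.GrpSchLib.FieldSmooth
import Mathlib.AlgebraicGeometry.SpreadingOut

/-!
Extension of morphisms over schematically dense opens descends along flat surjective morphisms.
-/

set_option autoImplicit false
set_option backward.isDefEq.respectTransparency false
set_option backward.isDefEq.respectTransparency.types false
set_option linter.style.haveILetI false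
set_option maxHeartbeats 1000000

universe u

open CategoryTheory CategoryTheory.Limits AlgebraicGeometry TopologicalSpace Topology

noncomputable section

namespace Groth.Agent.NeronFlatDesc

theorem exists_specializes_of_isLocallyClosed {T : Type*} [TopologicalSpace T] [NoetherianSpace T]
    [QuasiSober T] {D : Set T} (hD : IsLocallyClosed D) {y : T} (hy : y ∈ closure D) :
    ∃ z ∈ D, z ⤳ y := by
  let Z : Set T := closure D
  haveI : QuasiSober Z := (isClosed_closure (s := D)).isClosedEmbedding_subtypeVal.quasiSober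
  haveI : NoetherianSpace Z := NoetherianSpace.set Z
  let y' : Z := ⟨y, hy⟩
  let C : Set (Set Z) := {I | I ∈ irreducibleComponents Z ∧ y' ∉ I}
  have hC : IsClosed (⋃₀ C) :=
    Set.sUnion_eq_biUnion (s := C) ▸ Set.Finite.isClosed_biUnion
      (NoetherianSpace.finite_irreducibleComponents.subset fun I hI => hI.1)
      fun I hI => isClosed_of_mem_irreducibleComponents _ hI.1
  have hy' : y' ∈ closure ((↑) ⁻¹' D : Set Z) := by
    rw [closure_subtype, Subtype.image_preimage_coe, Set.inter_eq_right.2 subset_closure]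
    exact hy
  obtain ⟨z, hz, hzD⟩ := mem_closure_iff.1 hy' _ hC.isOpen_compl
    (fun h => by obtain ⟨I, hI, hyI⟩ := h; exact hI.2 hyI)
  have hzc : z ∈ irreducibleComponent z := mem_irreducibleComponent
  have hyc : y' ∈ irreducibleComponent z := by
    by_contra h
    exact hz ⟨_, ⟨irreducibleComponent_mem_irreducibleComponents z, h⟩, hzc⟩
  have hirr := isIrreducible_irreducibleComponent (x := z)
  have hg := hirr.isGenericPoint_genericPoint isClosed_irreducibleComponent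
  exact ⟨hirr.genericPoint.1, (hg.specializes hzc).mem_open hD.isOpen_preimage_val_closure hzD,
    (hg.specializes hyc).map continuous_subtype_val⟩

variable {S P Y N : Scheme.{u}} (pY : Y ⟶ S) (pN : N ⟶ S) [IsSeparated pN] [LocallyOfFiniteType pN]
  [IsLocallyNoetherian Y] (p : P ⟶ Y) [Flat p] [Surjective p]
  (W : Y.Opens) (hW : CInt.IsSchematicallyDense W)
  (g : (W : Scheme.{u}) ⟶ N) (hg : g ≫ pN = W.ι ≫ pY)
  (h' : P ⟶ N) (hh'S : h' ≫ pN = p ≫ pY) (hh' : (p ⁻¹ᵁ W).ι ≫ h' = (p ∣_ W) ≫ g)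

include hW hh'S hh' in
theorem exists_stalk_ext (y : Y) :
    ∃ hT : Spec (Y.presheaf.stalk y) ⟶ N, hT ≫ pN = Y.fromSpecStalk y ≫ pY ∧
      ((Y.fromSpecStalk y) ⁻¹ᵁ W).ι ≫ hT = (Y.fromSpecStalk y ∣_ W) ≫ g := by
  obtain ⟨y', rfl⟩ := p.surjective y
  let f := Spec.map (p.stalkMap y')
  haveI : Flat (Y.fromSpecStalk (p y')) := GrpSchLib.flat_fromSpecStalk _
  have hf : f ≫ Y.fromSpecStalk (p y') = P.fromSpecStalk y' ≫ p := Scheme.SpecMap_stalkMap_fromSpecStalk p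
  have hfl : (p.stalkMap y').hom.Flat := Flat.stalkMap p y'
  haveI : Flat f := (HasRingHomProperty.Spec_iff (P := @Flat)).2 hfl
  haveI : Surjective f := by
    algebraize [(p.stalkMap y').hom]
    haveI : IsLocalHom (algebraMap (Y.presheaf.stalk (p y')) (P.presheaf.stalk y')) :=
      inferInstanceAs <| IsLocalHom (p.stalkMap y').hom
    haveI : Module.FaithfullyFlat (Y.presheaf.stalk (p y')) (P.presheaf.stalk y') :=
      Module.FaithfullyFlat.of_flat_of_isLocalHom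
    exact ⟨fun q => PrimeSpectrum.comap_surjective_of_faithfullyFlat q⟩
  obtain ⟨h, h1, h2⟩ := SchDenseLib.extends_of_faithfullyFlat (Y.fromSpecStalk (p y') ≫ pY) pN f
    ((Y.fromSpecStalk (p y')) ⁻¹ᵁ W)
    (S3844.result (pullback.fst f f ≫ f ≫ Y.fromSpecStalk (p y')) W hW)
    ((Y.fromSpecStalk (p y') ∣_ W) ≫ g) (P.fromSpecStalk y' ≫ h')
    (by rw [Category.assoc, hh'S, ← Category.assoc, ← hf, Category.assoc]) (by
      have hle : f ⁻¹ᵁ ((Y.fromSpecStalk (p y')) ⁻¹ᵁ W) ≤ (P.fromSpecStalk y') ⁻¹ᵁ (p ⁻¹ᵁ W) := by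
        rw [← Scheme.Hom.comp_preimage, hf, Scheme.Hom.comp_preimage]
      let a := (Scheme.homOfLE _ hle) ≫ (P.fromSpecStalk y') ∣_ (p ⁻¹ᵁ W)
      have ha : a ≫ (p ⁻¹ᵁ W).ι = (f ⁻¹ᵁ ((Y.fromSpecStalk (p y')) ⁻¹ᵁ W)).ι ≫ P.fromSpecStalk y' := by
        simp [a, Category.assoc]
      rw [← reassoc_of% ha, hh']
      simp only [← Category.assoc]
      congr 1
      rw [← cancel_mono W.ι]
      simp only [Category.assoc, morphismRestrict_ι, morphismRestrict_ι_assoc]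
      rw [reassoc_of% ha, hf])
  exact ⟨h, h2, h1⟩

include hW hg hh'S hh' in
theorem exists_nhd_ext (y : Y) :
    ∃ (V : Y.Opens) (v : (V : Scheme.{u}) ⟶ N), y ∈ V ∧ v ≫ pN = V.ι ≫ pY ∧
      Y.homOfLE (inf_le_left : V ⊓ W ≤ V) ≫ v = Y.homOfLE inf_le_right ≫ g := by
  obtain ⟨hT, hTS, hTg⟩ := exists_stalk_ext pY pN p W hW g h' hh'S hh' y
  obtain ⟨V₀, hyV₀, u₀, hu₀, hu₀S⟩ := spread_out_of_isGermInjective' pY pN hT hTS
  obtain ⟨V, hV, hyV, hVV₀⟩ := exists_isAffineOpen_mem_and_subset hyV₀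
  let v : (V : Scheme.{u}) ⟶ N := Y.homOfLE hVV₀ ≫ u₀
  have hvS : v ≫ pN = V.ι ≫ pY := by rw [Category.assoc, hu₀S, Scheme.homOfLE_ι_assoc]
  let Ω := V ⊓ W
  let a : (Ω : Scheme.{u}) ⟶ N := Y.homOfLE inf_le_left ≫ v
  let b : (Ω : Scheme.{u}) ⟶ N := Y.homOfLE inf_le_right ≫ g
  have hab : a ≫ pN = b ≫ pN := by
    simp only [a, b, Category.assoc, hvS, hg, Scheme.homOfLE_ι_assoc]
  have hgood : ∀ z : Y, ∀ hz : z ∈ Ω, z ⤳ y →
      ∃ O : Y.Opens, z ∈ O ∧ ∃ hO : O ≤ Ω, Y.homOfLE hO ≫ a = Y.homOfLE hO ≫ b := by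
    intro z hz hzy
    let s := Spec.map (Y.presheaf.stalkSpecializes hzy)
    have hs : s ≫ Y.fromSpecStalk y = Y.fromSpecStalk z := Scheme.SpecMap_stalkSpecializes_fromSpecStalk _
    let j : Spec (Y.presheaf.stalk z) ⟶ (Ω : Scheme.{u}) := Ω.fromSpecStalkOfMem z hz
    have hj : j ≫ Ω.ι = Y.fromSpecStalk z := Scheme.Opens.fromSpecStalkOfMem_ι _ _ _
    have hr : Set.range s ⊆ Set.range ((Y.fromSpecStalk y) ⁻¹ᵁ W).ι := by
      rw [Scheme.Opens.range_ι]
      rintro _ ⟨q, rfl⟩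
      show (Y.fromSpecStalk y) (s q) ∈ W
      rw [← Scheme.Hom.comp_apply, hs, ← hj, Scheme.Hom.comp_apply]
      exact (j q).2.2
    have hl : IsOpenImmersion.lift ((Y.fromSpecStalk y) ⁻¹ᵁ W).ι s hr ≫ ((Y.fromSpecStalk y) ⁻¹ᵁ W).ι = s :=
      IsOpenImmersion.lift_fac _ _ _
    have h1 : j ≫ a = s ≫ hT := by
      rw [hu₀, ← Category.assoc s]
      simp only [a, v, ← Category.assoc]
      congr 1
      rw [← cancel_mono V₀.ι]
      simp only [Category.assoc, Scheme.homOfLE_ι, Scheme.Opens.fromSpecStalkOfMem_ι, hs]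
      exact hj
    have h2 : j ≫ b = s ≫ hT := by
      rw [← hl, Category.assoc, hTg, ← Category.assoc]
      simp only [b, ← Category.assoc]
      congr 1
      rw [← cancel_mono W.ι]
      simp only [Category.assoc, Scheme.homOfLE_ι, morphismRestrict_ι]
      rw [reassoc_of% hl, hs]
      exact hj
    let z' : (Ω : Scheme.{u}) := ⟨z, hz⟩
    have hzz : (Ω : Scheme.{u}).fromSpecStalk z' ≫ a = (Ω : Scheme.{u}).fromSpecStalk z' ≫ b := by
      have e : (Ω : Scheme.{u}).fromSpecStalk z' = Spec.map (Ω.ι.stalkMap z') ≫ j := by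
        rw [← cancel_mono Ω.ι, Category.assoc, hj]
        exact (Scheme.SpecMap_stalkMap_fromSpecStalk Ω.ι (x := z')).symm
      rw [e, Category.assoc, Category.assoc, h1, h2]
    haveI : IsLocallyNoetherian (Ω : Scheme.{u}) := isLocallyNoetherian_of_isOpenImmersion Ω.ι
    haveI : LocallyOfFiniteType pN := inferInstance
    obtain ⟨O, hzO, hO⟩ := spread_out_unique_of_isGermInjective' a b hzz
    refine ⟨Ω.ι ''ᵁ O, ⟨z', hzO, rfl⟩, Ω.ι_image_le O, ?_⟩
    have e : (Ω.ι.isoImage O).hom ≫ Y.homOfLE (Ω.ι_image_le O) = O.ι := by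
      rw [← cancel_mono Ω.ι, Category.assoc, Scheme.homOfLE_ι, Scheme.Hom.isoImage_hom_ι]
    refine (cancel_epi (Ω.ι.isoImage O).hom).1 ?_
    refine (Category.assoc _ _ a).symm.trans (Eq.trans ?_ (Category.assoc _ _ b))
    rw [e]
    exact hO
  let G : Set Y := {z | ∃ O : Y.Opens, z ∈ O ∧ ∃ hO : O ≤ Ω, Y.homOfLE hO ≫ a = Y.homOfLE hO ≫ b}
  have hG : IsOpen G := isOpen_iff_forall_mem_open.2 fun z ⟨O, hzO, hO⟩ =>
    ⟨O, fun w hw => ⟨O, hw, hO⟩, O.isOpen, hzO⟩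
  let D : Set Y := (Ω : Set Y) ∩ Gᶜ
  have hyD : y ∉ closure D := by
    intro hy
    haveI : IsNoetherianRing Γ(Y, V) := IsLocallyNoetherian.component_noetherian ⟨V, hV⟩
    haveI : NoetherianSpace (V : Set Y) := noetherianSpace_of_isAffineOpen V hV
    haveI : QuasiSober (V : Set Y) := V.isOpen.isOpenEmbedding_subtypeVal.quasiSober
    let y₀ : (V : Set Y) := ⟨y, hyV⟩
    have hy₀ : y₀ ∈ closure ((↑) ⁻¹' D : Set (V : Set Y)) := by
      rw [← V.isOpen.isOpenEmbedding_subtypeVal.isOpenMap.preimage_closure_eq_closure_preimage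
        continuous_subtype_val D]
      exact hy
    obtain ⟨z, ⟨hzΩ, hzG⟩, hzy⟩ := exists_specializes_of_isLocallyClosed
      ((Ω.isOpen.isLocallyClosed.inter hG.isClosed_compl.isLocallyClosed).preimage continuous_subtype_val) hy₀
    exact hzG (hgood z.1 hzΩ (hzy.map continuous_subtype_val))
  obtain ⟨V', hV'⟩ : ∃ V' : Y.Opens, (V' : Set Y) = (V : Set Y) ∩ (closure D)ᶜ :=
    ⟨⟨_, V.isOpen.inter isClosed_closure.isOpen_compl⟩, rfl⟩
  have hle : V' ≤ V := fun z hz => (hV'.le hz).1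
  refine ⟨V', Y.homOfLE hle ≫ v, hV'.ge ⟨hyV, hyD⟩, by rw [Category.assoc, hvS, Scheme.homOfLE_ι_assoc], ?_⟩
  have hle' : V' ⊓ W ≤ Ω := inf_le_inf_right W hle
  have hmem : ∀ z : ↥(V' ⊓ W), ∃ O : Y.Opens, z.1 ∈ O ∧ ∃ hO : O ≤ Ω, Y.homOfLE hO ≫ a = Y.homOfLE hO ≫ b :=
    fun z => by
      by_contra hn
      exact (hV'.le z.2.1).2 (subset_closure ⟨hle' z.2, hn⟩)
  choose O hzO hOle hO using hmem
  suffices hd : Y.homOfLE hle' ≫ a = Y.homOfLE hle' ≫ b by
    simpa [a, b] using hd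
  refine Scheme.Cover.hom_ext ((V' ⊓ W : Y.Opens).toScheme.openCoverOfIsOpenCover
    (fun z : ↥(V' ⊓ W) => (V' ⊓ W).ι ⁻¹ᵁ O z)
    (IsOpenCover.mk (top_unique fun z _ => Opens.mem_iSup.2 ⟨z, hzO z⟩))) _ _ fun (z : ↥(V' ⊓ W)) => ?_
  show ((V' ⊓ W).ι ⁻¹ᵁ O z).ι ≫ Y.homOfLE hle' ≫ a = ((V' ⊓ W).ι ⁻¹ᵁ O z).ι ≫ Y.homOfLE hle' ≫ b
  have e : ((V' ⊓ W).ι ⁻¹ᵁ O z).ι ≫ Y.homOfLE hle' = ((V' ⊓ W).ι ∣_ O z) ≫ Y.homOfLE (hOle z) := by
    rw [← cancel_mono Ω.ι]
    simp [Category.assoc]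
  rw [reassoc_of% e, reassoc_of% e, hO z]

include hW hg hh'S hh' in
theorem exists_ext : ∃ h : Y ⟶ N, h ≫ pN = pY ∧ W.ι ≫ h = g := by
  choose V v hyV hvS hvg using exists_nhd_ext pY pN p W hW g hg h' hh'S hh'
  let 𝒰 : Y.OpenCover := Y.openCoverOfIsOpenCover V
    (IsOpenCover.mk (top_unique fun z _ => Opens.mem_iSup.2 ⟨z, hyV z⟩))
  have hdown : ∀ (a : Y) {T : Scheme.{u}} (l : T ⟶ (V a : Scheme.{u})) (m : T ⟶ (W : Scheme.{u})),
      l ≫ (V a).ι = m ≫ W.ι → l ≫ v a = m ≫ g := by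
    intro a T l m e
    have hr : Set.range (l ≫ (V a).ι) ⊆ Set.range (V a ⊓ W).ι := by
      rw [Scheme.Opens.range_ι]
      rintro _ ⟨t, rfl⟩
      refine ⟨(l t).2, ?_⟩
      rw [e]
      exact (m t).2
    have hn : IsOpenImmersion.lift _ _ hr ≫ (V a ⊓ W).ι = l ≫ (V a).ι := IsOpenImmersion.lift_fac _ _ _
    have h1 : IsOpenImmersion.lift _ _ hr ≫ Y.homOfLE inf_le_left = l := by
      rw [← cancel_mono (V a).ι, Category.assoc, Scheme.homOfLE_ι, hn]
    have h2 : IsOpenImmersion.lift _ _ hr ≫ Y.homOfLE inf_le_right = m := by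
      rw [← cancel_mono W.ι, Category.assoc, Scheme.homOfLE_ι, hn, e]
    rw [← h1, ← h2, Category.assoc, Category.assoc, hvg]
  have hglue : ∀ a b, pullback.fst (𝒰.f a) (𝒰.f b) ≫ v a = pullback.snd _ _ ≫ v b := by
    intro (a : Y) (b : Y)
    show pullback.fst (V a).ι (V b).ι ≫ v a = pullback.snd (V a).ι (V b).ι ≫ v b
    let c := pullback.fst (V a).ι (V b).ι ≫ (V a).ι
    refine SchDenseLib.hom_ext (S3844.result c W hW) pN _ _ ?_ ?_
    · rw [Category.assoc, hvS, Category.assoc, hvS, pullback.condition_assoc]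
    · rw [← Category.assoc, ← Category.assoc, hdown a _ (c ∣_ W) (by simp [c, Category.assoc]),
        hdown b _ (c ∣_ W) (by simp [c, Category.assoc, pullback.condition])]
  let gl : Y ⟶ N := 𝒰.glueMorphisms (fun a => v a) hglue
  have hgl : ∀ a : Y, (V a).ι ≫ gl = v a := fun a => 𝒰.ι_glueMorphisms _ hglue a
  refine ⟨gl, Scheme.Cover.hom_ext 𝒰 _ _ fun (a : Y) => ?_, ?_⟩
  · show (V a).ι ≫ gl ≫ pN = (V a).ι ≫ pY
    rw [reassoc_of% (hgl a), hvS]
  · refine Scheme.Cover.hom_ext (𝒰.pullback₁ W.ι) _ _ fun (a : Y) => ?_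
    show pullback.fst W.ι (V a).ι ≫ W.ι ≫ gl = pullback.fst W.ι (V a).ι ≫ g
    rw [pullback.condition_assoc, hgl]
    exact hdown a _ _ pullback.condition.symm

end Groth.Agent.NeronFlatDesc
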